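import Mathlib
import Cfsg.Agent.Lib.Helper79.S4719.Defs
import Cfsg.Agent.Lib.Helper2.S4719.Bfa
import Cfsg.Agent.Lib.Helper66.S4719.FixQ

/-!
# S4719 project, module [COMPB]

`card_quot_center_le_of_conj_eq`: a quasisimple subgroup `L` normalized by an involution `t`
satisfies `|L / Z(L)| ≤ (2 |C_G(t)|²)!`.
-/

set_option autoImplicit false

namespace Cfsg.Agent.Lib.Helper41.S4719

open Cfsg Cfsg.Agent.Lib.Helper79.S4719

universe u

variable {G : Type u} [Group G]

/-- [COMPB] -/
theorem card_quot_center_le_of_conj_eq [Finite G] (L : Subgroup G) (hL : IsQuasisimple L) (t : G)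
    (ht : t * t = 1) (heq : L.map (MulAut.conj t).toMonoidHom = L) :
    Nat.card (↥L ⧸ Subgroup.center ↥L) ≤ compB (Nat.card (Subgroup.centralizer ({t} : Set G))) := by
  classical
  have htinv : t⁻¹ = t := inv_eq_of_mul_eq_one_left ht
  -- the automorphism of L induced by t
  let e : ↥L ≃* ↥L := ((MulAut.conj t).subgroupMap L).trans (MulEquiv.subgroupCongr heq)
  have he : ∀ x : ↥L, ((e x : ↥L) : G) = t * x.1 * t⁻¹ := fun x => rfl
  have hee : ∀ x : ↥L, e (e x) = x := by
    intro x
    apply Subtype.ext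
    rw [he, he, htinv]
    calc t * (t * x.1 * t) * t = (t * t) * x.1 * (t * t) := by group
      _ = x.1 := by rw [ht, one_mul, mul_one]
  have hmap : (Subgroup.center ↥L).map (e : ↥L →* ↥L) = Subgroup.center ↥L :=
    (Subgroup.characteristic_iff_map_eq.mp Subgroup.centerCharacteristic) e
  let τ : ↥L ⧸ Subgroup.center ↥L ≃* ↥L ⧸ Subgroup.center ↥L :=
    QuotientGroup.congr (Subgroup.center ↥L) (Subgroup.center ↥L) e hmap
  have hτ : ∀ x : ↥L, τ (x : ↥L ⧸ Subgroup.center ↥L) = ((e x : ↥L) : ↥L ⧸ Subgroup.center ↥L) :=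
    fun x => QuotientGroup.congr_mk _ _ e hmap x
  have hττ : ∀ y, τ (τ y) = y := by
    intro y
    induction y using QuotientGroup.induction_on with
    | H x => rw [hτ, hτ, hee]
  -- the quotient is simple with trivial centre
  have hsimple : IsSimpleGroup (↥L ⧸ Subgroup.center ↥L) := hL.2
  have hperf : Group.IsPerfect ↥L := hL.1
  have hZ : Subgroup.center (↥L ⧸ Subgroup.center ↥L) = ⊥ := by
    rcases (inferInstance : (Subgroup.center (↥L ⧸ Subgroup.center ↥L)).Normal).eq_bot_or_eq_top
      with h | h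
    · exact h
    · exfalso
      have hcomm : IsMulCommutative (↥L ⧸ Subgroup.center ↥L) :=
        ⟨⟨fun a b => (Subgroup.mem_center_iff.mp (h ▸ Subgroup.mem_top b)) a⟩⟩
      exact Group.IsPerfect.not_isMulCommutative (↥L ⧸ Subgroup.center ↥L) hcomm
  have h1 := Cfsg.Agent.Lib.Helper2.S4719.bf_aut hZ τ hττ
  have h2 := Cfsg.Agent.Lib.Helper66.S4719.card_fix_quot_le e τ hτ
  have h3 : Nat.card {x : ↥L // e x = x} ≤ Nat.card (Subgroup.centralizer ({t} : Set G)) := by
    have hinj : Function.Injective (fun x : {x : ↥L // e x = x} =>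
        (⟨x.1.1, by
          rw [Subgroup.mem_centralizer_iff]
          intro h hh
          rw [Set.mem_singleton_iff] at hh
          subst hh
          have := congrArg Subtype.val x.2
          rw [he] at this
          calc h * x.1.1 = (h * x.1.1 * h⁻¹) * h := by group
            _ = x.1.1 * h := by rw [this]⟩ : Subgroup.centralizer ({t} : Set G))) := by
      intro x y hxy
      have := congrArg Subtype.val hxy
      exact Subtype.ext (Subtype.ext this)
    exact Nat.card_le_card_of_injective _ hinj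
  unfold compB
  refine h1.trans (Nat.factorial_le ?_)
  exact Nat.mul_le_mul_left _ (Nat.pow_le_pow_left (h2.trans h3) 2)

end Cfsg.Agent.Lib.Helper41.S4719
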